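import Groth.Agent.L13.LefInter.Pro

/-!
# Formal comparison of homomorphisms from pro-vanishing
-/

set_option autoImplicit false
set_option linter.style.haveILetI false
set_option linter.unusedSectionVars false
set_option backward.isDefEq.respectTransparency false
set_option backward.isDefEq.respectTransparency.types false
universe u

open CategoryTheory CategoryTheory.Limits AlgebraicGeometry

noncomputable section

namespace Groth.L13.LefInter

open Groth.L16.CohLinear (hmap hmap_comp hmap_id)
open Groth.L00.Tensor (tensorAssoc tensorIso tensorUnitRight tensorComm tensorRightF tensorLeftF tensorFlipIso)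
open Groth.L13.FEtLeff.LefSection

variable {X : Scheme.{u}}

theorem homToFormalBijective_of_twist_pz [IsNoetherian X] (I : X.IdealSheafData) {La : X.Modules}
    (hLa : PicF.IsInvertible La) [(tensorLeftF La).IsEquivalence] (hz : ∀ q, q ≤ 1 → PZ La I q)
    {P : X.Modules} {r : ℕ} (e : (tensorLeftF La).obj P ≅ FlatMod.freeMod X r) :
    Lef.HomToFormalBijective I P := by
  classical
  choose w hS using fun m : ℕ => shortExact_idealMul_tw (I ^ (m + 1)) hLa
  have hle : ∀ {a b : ℕ}, a ≤ b → ∃ l : (Dual3.idealMul (I ^ (b + 1))).obj La ⟶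
      (Dual3.idealMul (I ^ (a + 1))).obj La,
      l ≫ Dual3.idealMulι (I ^ (a + 1)) La = Dual3.idealMulι (I ^ (b + 1)) La := fun {a b} h => by
    haveI := (Groth.L18.Ample.isCoh_of_isInvertible hLa).1
    exact Groth.L17.IdealMulSec.exists_le (I ^ (b + 1)) La (pow_le_pow' _ (Nat.add_le_add_right h 1))
  choose κ hκ using @hle
  have main := Groth.L18.OffAffine.sections_bijective _ _ _ (fun m => twp La (I ^ (m + 1)))
    w hS (fun m => (tensorLeftF La).map (Lef.quotMap (Lef.pow_succ_le I m)))
    (fun m => twp_quotMap La _) @κ @hκ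
    (fun q hq a => by
      obtain ⟨b, hb, hk⟩ := hz q hq (a + 1)
      obtain ⟨h, hk⟩ := hk.mono (pow_le_pow' I (Nat.le_succ b)) le_rfl
      have hab : a ≤ b := by omega
      refine ⟨b, hab, fun x => ?_⟩
      obtain ⟨ea, hea⟩ := exists_idealMul_iso (I ^ (a + 1)) hLa
      obtain ⟨eb, heb⟩ := exists_idealMul_iso (I ^ (b + 1)) hLa
      have hκ' : κ hab = eb.hom ≫ lI La h ≫ ea.inv := by
        haveI : Mono (Dual3.idealMulι (I ^ (a + 1)) La) := (hS a).mono_f
        rw [← cancel_mono (Dual3.idealMulι (I ^ (a + 1)) La), hκ]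
        conv_rhs => rw [Category.assoc, Category.assoc, ← hea, Iso.inv_hom_id_assoc, lI_twi, heb]
      rw [hκ', hmap_comp, hmap_comp, hk, map_zero])
  refine homToFormalBijective_of_functor I (tensorLeftF La) (La := La) (tensorUnitRight La) ?_ ?_ e
  · intro x hx
    exact unit_inj (fun m => twp La (I ^ (m + 1))) main.1 x hx
  · intro y hy
    exact unit_surj (fun m => twp La (I ^ (m + 1))) _ main.2 y hy

theorem homToFormalBijective_of_pz [IsNoetherian X] {L : X.Modules} (hL : CohB1.IsAmple L)
    (I : X.IdealSheafData)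
    (hz : ∀ (La : X.Modules), PicF.IsInvertible La → ∀ [(tensorLeftF La).IsEquivalence] (q : ℕ), q ≤ 1 → PZ La I q)
    {G : X.Modules} (hG : Coh.IsCoh G) : Lef.HomToFormalBijective I G := by
  obtain ⟨L', hL', i⟩ : ∃ L' : X.Modules, PicF.IsInvertible L' ∧
      Nonempty (CohB1.tensorMod L L' ≅ Coh.structureModule X) :=
    Groth.L08.Cube.exists_inverse hL.1
  obtain ⟨i⟩ := i
  have key : ∀ (a r : ℕ), Lef.HomToFormalBijective I
      (CohB1.tensorMod (FlatMod.freeMod X r) (CohB1.tensorPow L' a)) := by
    intro a r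
    let La := CohB1.tensorPow L a
    have hLa : PicF.IsInvertible La := Groth.L18.Ample.isInvertible_tensorPow hL.1 a
    let pinv := Groth.L22.EnrSev.powInv i a
    haveI : (tensorRightF La).IsEquivalence := Groth.L22.PDual.isEquivalence_tensorRightF
      (tensorComm La (CohB1.tensorPow L' a) ≪≫ pinv)
    haveI : (tensorLeftF La).IsEquivalence := Functor.isEquivalence_of_iso (tensorFlipIso La)
    exact homToFormalBijective_of_twist_pz I hLa (fun q hq => hz La hLa q hq)
      (r := r) (P := CohB1.tensorMod (FlatMod.freeMod X r) (CohB1.tensorPow L' a))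
      (((tensorFlipIso La).app _).symm ≪≫
        tensorAssoc _ _ _ ≪≫ tensorIso (Iso.refl _) pinv ≪≫ tensorUnitRight _)
  have hfree : ∀ (a r : ℕ), Coh.IsCoh (CohB1.tensorMod (FlatMod.freeMod X r) (CohB1.tensorPow L' a)) := fun a r =>
    Groth.L16.NegPow.isCoh_of_isFinLocFree
      (Groth.L16.NegPow.isFinLocFree_freeTensor (Groth.L18.Ample.isInvertible_tensorPow hL' a) r)
  obtain ⟨a, r, p, hp⟩ := Groth.L18.LefTwists.exists_epi_negPow hL i hG
  haveI := hp
  haveI : Coh.IsQCoh G := hG.1
  obtain ⟨a', r', q, hq⟩ := Groth.L18.LefTwists.exists_epi_negPow hL i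
    (Groth.L16.CohSupport.isCoh_kernel (hfree a r) p)
  haveI := hq
  exact Groth.L18.LefTwists.homToFormalBijective_of_presentation _ p q (key a r) (key a' r')

end Groth.L13.LefInter
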