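import Groth.Agent.L03.Euler.Drop
import Groth.Agent.L18.CurveDimension
import Groth.Agent.L19.AmpleAffineLocus
import Groth.Agent.L22.EnrSev.H0

/-!
# Intersections of ample divisors meet closed subsets of large dimension
-/

set_option autoImplicit false
set_option linter.style.haveILetI false
set_option linter.unusedSectionVars false
set_option backward.isDefEq.respectTransparency false
set_option backward.isDefEq.respectTransparency.types false
universe u

open CategoryTheory CategoryTheory.Limits AlgebraicGeometry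

noncomputable section

namespace Groth.L13.LefInter

attribute [local instance] Curv2.resAlgebra

variable (k : Type u) [Field k] {X : Scheme.{u}} [X.Over (Spec (CommRingCat.of k))]
  [IsProper (X ↘ Spec (CommRingCat.of k))]

/-- The dimension of the closure of a point. -/
def cdim (x : X) : ℕ := (Algebra.trdeg k (X.residueField x)).toNat

theorem trdeg_eq_cdim (x : X) : Algebra.trdeg k (X.residueField x) = cdim k x := by
  obtain ⟨n, -, hn⟩ := Groth.L22.SchemeDim.exists_dim_closure_eq_trdeg k X x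
  rw [cdim, hn, Cardinal.toNat_natCast]

theorem dim_closure_eq_cdim (x : X) : topologicalKrullDim ↥(closure ({x} : Set X)) = (cdim k x : WithBot ℕ∞) := by
  obtain ⟨n, hn, hn'⟩ := Groth.L22.SchemeDim.exists_dim_closure_eq_trdeg k X x
  rw [hn, cdim, hn', Cardinal.toNat_natCast]

theorem cdim_lt {a b : X} (h : a ⤳ b) (hne : a ≠ b) : cdim k b < cdim k a := by
  obtain ⟨n, m, hn, hm, hlt⟩ := Groth.L18.CurveDim.trdeg_lt_of_specializes (k := k) h hne
  rwa [cdim, cdim, hn, hm, Cardinal.toNat_natCast, Cardinal.toNat_natCast]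

theorem cdim_eq_zero_of_isClosed {y : X} (hy : IsClosed ({y} : Set X)) : cdim k y = 0 := by
  rw [cdim, Groth.L18.CurveDim.trdeg_eq_zero_of_isClosed (k := k) hy, map_zero]

/-- Cutting by one ample divisor. -/
theorem exists_drop {L : X.Modules} (hL : CohB1.IsAmple L) (s : Coh.structureModule X ⟶ L) {y : X}
    (hy : 1 ≤ cdim k y) : ∃ z : X, y ⤳ z ∧ z ∉ CohB1.genLocus L s ∧ cdim k y ≤ cdim k z + 1 := by
  classical
  by_cases hys : y ∈ CohB1.genLocus L s
  swap
  · exact ⟨y, specializes_rfl, hys, Nat.le_succ _⟩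
  obtain ⟨p, hyp, hps⟩ : ∃ p, y ⤳ p ∧ p ∉ CohB1.genLocus L s := by
    by_contra! h
    have hcl := Groth.L22.EnrSev.isClosed_of_closure_subset_affine k
      (Groth.L19.AmpleAffine.isAffineOpen_genLocus (X ↘ Spec (CommRingCat.of k)) hL s) (x := y)
      fun w hw => h w (specializes_iff_mem_closure.2 hw)
    have := cdim_eq_zero_of_isClosed k hcl
    omega
  have hb : ∀ w, y ⤳ w → cdim k w ≤ cdim k y := fun w hw => by
    by_cases e : y = w
    · rw [e]
    · exact (cdim_lt k hw e).le
  let P : ℕ → Prop := fun n => ∃ w, y ⤳ w ∧ w ∉ CohB1.genLocus L s ∧ cdim k w = n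
  have hP : P (cdim k p) := ⟨p, hyp, hps, rfl⟩
  obtain ⟨z, hyz, hzs, hz⟩ := Nat.findGreatest_spec (P := P) (hb p hyp) hP
  refine ⟨z, hyz, hzs, ?_⟩
  obtain ⟨n, hn, hn'⟩ := Groth.L03.Euler.dim_closure_eq_add_one k hL.1 s hys
    (specializes_iff_mem_closure.1 hyz) hzs fun w hyw hws hwz => by
      by_contra hne
      have h1 := cdim_lt k hwz hne
      have h2 : cdim k w ≤ Nat.findGreatest P (cdim k y) :=
        Nat.le_findGreatest (hb w hyw) ⟨w, hyw, hws, rfl⟩
      omega
  rw [dim_closure_eq_cdim k z] at hn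
  rw [dim_closure_eq_cdim k y] at hn'
  have e1 : cdim k z = n := by exact_mod_cast hn
  have e2 : cdim k y = n + 1 := by exact_mod_cast hn'
  omega

/-- Cutting by several ample divisors. -/
theorem exists_common_zero : ∀ (m : ℕ) (L : Fin m → X.Modules) (s : ∀ j, Coh.structureModule X ⟶ L j),
    (∀ j, CohB1.IsAmple (L j)) → ∀ y : X, m ≤ cdim k y →
      ∃ z : X, y ⤳ z ∧ (∀ j, z ∉ CohB1.genLocus (L j) (s j)) ∧ cdim k y ≤ cdim k z + m
  | 0, _, _, _, y, _ => ⟨y, specializes_rfl, fun j => j.elim0, le_rfl⟩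
  | m + 1, L, s, hL, y, hy => by
    obtain ⟨z, hyz, hz, hd⟩ := exists_common_zero m (fun j => L j.castSucc) (fun j => s j.castSucc)
      (fun j => hL _) y (by omega)
    obtain ⟨w, hzw, hw, hd'⟩ := exists_drop k (hL (Fin.last m)) (s (Fin.last m)) (y := z) (by omega)
    refine ⟨w, hyz.trans hzw, fun j => ?_, by omega⟩
    refine Fin.lastCases hw (fun i h => hz i (hzw.mem_open (CohB1.genLocus _ _).2 h)) j

/-- Local dimension on an irreducible scheme. -/
theorem dim_stalk_add_cdim [IrreducibleSpace X] {n : ℕ} (hn : topologicalKrullDim X = n) (x : X) :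
    ∃ b : ℕ, ringKrullDim (X.presheaf.stalk x) = (b : WithBot ℕ∞) ∧ cdim k x + b = n := by
  obtain ⟨a, b, ha, hb, hab⟩ := Groth.L22.SchemeDim.exists_localDim k X x
  obtain ⟨n', hn', -, hopen⟩ := Groth.L22.SchemeDim.exists_dim_eq_trdeg k X
  have e : n' = n := by exact_mod_cast hn'.symm.trans hn
  subst e
  have hl : FlatMor.localDim X x = (n' : WithBot ℕ∞) :=
    le_antisymm ((iInf_le _ (⟨⊤, trivial⟩ : {U : TopologicalSpace.Opens X // x ∈ U})).trans (hopen ⊤ ⟨x, trivial⟩).le)
      (le_iInf fun U => (hopen U.1 ⟨x, U.2⟩).ge)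
  refine ⟨b, hb, ?_⟩
  have h2 : a + b = n' := by exact_mod_cast hab.symm.trans hl
  rw [cdim, ha, Cardinal.toNat_natCast, h2]

end Groth.L13.LefInter
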