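import Groth.Agent.L13.LefInter.Divisor
import Groth.Agent.L13.LefInter.Hom
import Groth.Agent.L13.LefInter.Meet
import Groth.Agent.L13.FEtLeff.LefHyper
import Groth.Agent.L13.FEtLeff.Leff

/-!
# The Lefschetz condition along intersections of ample divisors
-/

set_option autoImplicit false
set_option linter.style.haveILetI false
set_option linter.unusedSectionVars false
set_option backward.isDefEq.respectTransparency false
set_option backward.isDefEq.respectTransparency.types false
universe u

open CategoryTheory CategoryTheory.Limits AlgebraicGeometry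

noncomputable section

namespace Groth.L13.LefInter

variable (k : Type u) [Field k] {X : Scheme.{u}} [X.Over (Spec (CommRingCat.of k))]
  [IsProper (X ↘ Spec (CommRingCat.of k))]

include k in
/-- `Lef(X, Y)` for `Y` the set of common zeros of `m` ample divisors, given depth. -/
theorem lefCond_of_good {A : X.Modules} (hA : CohB1.IsAmple A) (m : ℕ) (D : Fin m → X.IdealSheafData)
    (hD : ∀ j, Good (D j))
    (hd : ∀ x : X, IsClosed ({x} : Set X) → ((m + 1 : ℕ) : ℕ∞) ≤ LocCoh.depth (X.presheaf.stalk x) (X.presheaf.stalk x))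
    (hd2 : ∀ x : X, cdim k x + 1 ≤ m → (2 : ℕ∞) ≤ LocCoh.depth (X.presheaf.stalk x) (X.presheaf.stalk x))
    (𝓘 : X.IdealSheafData) (hY : (𝓘.support : Set X) = ⋂ j, ((D j).support : Set X)) :
    Lef.LefCond X 𝓘 := by
  haveI : IsLocallyNoetherian X := LocallyOfFiniteType.isLocallyNoetherian (X ↘ Spec (CommRingCat.of k))
  haveI : CompactSpace X := QuasiCompact.compactSpace_of_compactSpace (X ↘ Spec (CommRingCat.of k))
  haveI : IsNoetherian X := {}
  have hft : ∀ I : X.IdealSheafData, BlowUp.IsFiniteTypeIdeal I := fun I V => by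
    haveI : IsNoetherianRing Γ(X, V.1) := IsLocallyNoetherian.component_noetherian V
    exact IsNoetherian.noetherian _
  have hsupp : (𝓘.support : Set X) = ((supI m D).support : Set X) := hY.trans (support_supI m D).symm
  have hcof : ∀ I J : X.IdealSheafData, (I.support : Set X) = (J.support : Set X) →
      ∀ a : ℕ, ∃ b : ℕ, I ^ b ≤ J ^ a := fun I J h a => by
    obtain ⟨n, hn⟩ := Groth.L20.StrictSep.exists_pow_le (hft I) (B := J) h.ge
    refine ⟨(n + 1) * a, ?_⟩
    intro V
    have h' := hn V
    simp only [Scheme.IdealSheafData.ideal_pow, Pi.pow_apply] at h' ⊢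
    rw [pow_mul]
    exact Ideal.pow_right_mono h' a
  intro U hU E hE
  haveI : IsLocallyNoetherian (U : Scheme.{u}) := isLocallyNoetherian_of_isOpenImmersion U.ι
  haveI := Groth.L18.LefExtend.isIso_unitToPush_of_bijective U
    (Groth.L07.RefExtend.supportedOn_structureModule fun x hx => hd2 x (by
      by_contra hc
      choose L s hL hLs using hD
      obtain ⟨z, hxz, hz, -⟩ := exists_common_zero k m L s hL x (by omega)
      refine hx (hxz.mem_open U.2 (hU ?_))
      rw [hY]
      refine Set.mem_iInter.2 fun j => ?_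
      rw [← hLs j, Groth.L22.ZeroScheme.support_zeroScheme (hL j).1]
      exact hz j))
  have hO : Coh.IsCoh (Coh.structureModule X) := Groth.L16.CohClosedPush.isCoh_structure
  haveI : Coh.IsQCoh (Coh.structureModule X) := hO.1
  obtain ⟨G, -, e, hG, -⟩ := Groth.L19.FPExtend.exists_fp_extension (Coh.structureModule X) U
    (TopologicalSpace.NoetherianSpace.isCompact (U : Set X)) E
    (Groth.L15.Ref.isFP_of_isCoh (Groth.L16.NegPow.isCoh_of_isFinLocFree hE)) 0
  haveI := Groth.L05.Prufer.isQCoh_of_isFP hG
  have h := Groth.L18.LefExtend.homToFormalBijective_restrict 𝓘 U hU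
    (homToFormalBijective_of_pz hA 𝓘 (fun La hLa _ q hq =>
      (pz_supI k (X ↘ Spec (CommRingCat.of k)) hLa (m + 1) hd m D hD q (by omega)).of_cofinal
        (hcof _ _ hsupp.symm) (hcof _ _ hsupp)) (G := G)
      ⟨inferInstance, Groth.L19.LimMod.isFT_of_isFP hG⟩)
  refine ⟨fun φ ψ hφψ => (cancel_epi e.hom).1 (h.1 _ _ fun n => by simp only [Category.assoc, hφψ n]), fun y hy => ?_⟩
  obtain ⟨φ, hφ⟩ := h.2 (fun n => e.hom ≫ y n) fun n => by simp only [Category.assoc, hy n]
  exact ⟨e.inv ≫ φ, fun n => by rw [Category.assoc, hφ n, e.inv_hom_id_assoc]⟩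

end Groth.L13.LefInter
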