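import Groth.Agent.L13.LefInter.Kill
import Groth.Agent.L13.YBlow.LiftSec
import Groth.Agent.L18.AmpleOps
import Groth.Agent.L18.LefTwists

/-!
# Negative cohomological pro-vanishing along intersections of ample divisors
-/

set_option autoImplicit false
set_option linter.style.haveILetI false
set_option linter.unusedSectionVars false
set_option backward.isDefEq.respectTransparency false
set_option backward.isDefEq.respectTransparency.types false
universe u

open CategoryTheory CategoryTheory.Limits AlgebraicGeometry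

noncomputable section

namespace Groth.L13.LefInter

open Groth.L16.CohLinear (hmap hmap_comp hmap_id)
open Groth.L00.Tensor (tensorLeftF)
open Groth.L13.FEtLeff.LefSection (twi exists_idealMul_iso shortExact_twp)

variable {X : Scheme.{u}}

/-- The ideal is the zero scheme of a section of an ample module. -/
def Good (I : X.IdealSheafData) : Prop :=
  ∃ (L : X.Modules) (s : Coh.structureModule X ⟶ L), CohB1.IsAmple L ∧ PicF2.zeroScheme L s = I

theorem Good.mul {I J : X.IdealSheafData} (hI : Good I) (hJ : Good J) : Good (I * J) := by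
  obtain ⟨L, s, hL, rfl⟩ := hI
  obtain ⟨M, t, hM, rfl⟩ := hJ
  exact ⟨_, _, Groth.L18.Ample.isAmple_tensor hL hM, Groth.L13.YBlow.zeroScheme_tensHom hL.1 hM.1 s t⟩

variable (La : X.Modules)

/-- The inverse system `H^q(I^a La)` is pro-zero. -/
def PZ (I : X.IdealSheafData) (q : ℕ) : Prop := ∀ a : ℕ, ∃ b, a ≤ b ∧ Kill La (I ^ b) (I ^ a) q

variable {La}

theorem pow_le_pow' (I : X.IdealSheafData) {a b : ℕ} (h : a ≤ b) : I ^ b ≤ I ^ a :=
  Groth.L17.IdealMulExtend.pow_le_pow I h

theorem PZ.of_cofinal {I J : X.IdealSheafData} {q : ℕ} (hI : PZ La I q) (h₁ : ∀ a : ℕ, ∃ b : ℕ, I ^ b ≤ J ^ a)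
    (h₂ : ∀ a : ℕ, ∃ b : ℕ, J ^ b ≤ I ^ a) : PZ La J q := fun a => by
  obtain ⟨a', ha'⟩ := h₁ a
  obtain ⟨b', -, hk⟩ := hI a'
  obtain ⟨b, hb⟩ := h₂ b'
  exact ⟨max b a, le_max_right _ _, hk.mono ((pow_le_pow' J (le_max_left _ _)).trans hb) ha'⟩

theorem PZ.sup [IsNoetherian X] [(tensorLeftF La).IsEquivalence] {I J : X.IdealSheafData} {q : ℕ}
    (hI : PZ La I q) (hJ : PZ La J q) (hK : PZ La (I * J) (q + 1)) : PZ La (I ⊔ J) q := fun a => by
  obtain ⟨b₁, h₁, k₁⟩ := hI a
  obtain ⟨b₂, h₂, k₂⟩ := hJ a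
  let b := max b₁ b₂
  obtain ⟨c, hc, k₃⟩ := hK b
  obtain ⟨d, hd, hAR⟩ := exists_pow_inf_pow_le I J c
  have hbd : b ≤ d := hc.trans hd
  have k := Kill.mv (I₀ := I ^ d) (J₀ := J ^ d)
    (k₁.mono (pow_le_pow' I (le_max_left b₁ b₂)) le_rfl)
    (k₂.mono (pow_le_pow' J (le_max_right b₁ b₂)) le_rfl)
    (pow_le_pow' I hbd) (pow_le_pow' J hbd) (k₃.mono hAR (mul_pow_le_inf I J b))
  exact ⟨d + d, by omega, k.mono (sup_pow_le I J d) (pow_sup_pow_le I J a)⟩

/-- The supremum of a finite family, with its recursion. -/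
def supI : ∀ r : ℕ, (Fin r → X.IdealSheafData) → X.IdealSheafData
  | 0, _ => ⊥
  | r + 1, D => supI r (fun j => D j.castSucc) ⊔ D (Fin.last r)

theorem supI_mul : ∀ (r : ℕ) (D : Fin r → X.IdealSheafData) (J : X.IdealSheafData),
    supI r D * J = supI r fun j => D j * J
  | 0, _, J => zero_mul J
  | r + 1, D, J => by
    show (supI r _ + D (Fin.last r)) * J = supI r _ ⊔ _
    rw [add_mul, supI_mul r]
    rfl

theorem support_supI : ∀ (r : ℕ) (D : Fin r → X.IdealSheafData),
    ((supI r D).support : Set X) = ⋂ j, ((D j).support : Set X)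
  | 0, D => by simp [supI]
  | r + 1, D => by
    rw [supI, Scheme.IdealSheafData.support_sup]
    ext x
    simp [support_supI r, Fin.forall_fin_succ']

theorem isZero_TI_bot [(tensorLeftF La).IsEquivalence] : IsZero (TI La (⊥ : X.IdealSheafData)) := by
  haveI : IsIso (ClSub.toSubscheme (⊥ : X.IdealSheafData)) := by
    haveI := Groth.L18.LefExtend.isIso_unitToPush (⊥ : X.IdealSheafData).subschemeι
    exact inferInstanceAs (IsIso (ClSub.unitToPush (⊥ : X.IdealSheafData).subschemeι))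
  exact Functor.map_isZero _ (isZero_kernel_of_mono _)

theorem pz_zero [(tensorLeftF La).IsEquivalence] (q : ℕ) : PZ La (⊥ : X.IdealSheafData) q := fun a => by
  refine ⟨a + 1, Nat.le_succ a, pow_le_pow' _ (Nat.le_succ a), fun x => ?_⟩
  have hz : (⊥ : X.IdealSheafData) ^ (a + 1) = ⊥ := by
    rw [pow_succ]; exact mul_zero _
  have h0 : IsZero (TI La ((⊥ : X.IdealSheafData) ^ (a + 1))) := by rw [hz]; exact isZero_TI_bot
  rw [show lI La (pow_le_pow' (⊥ : X.IdealSheafData) (Nat.le_succ a)) = 0 from h0.eq_of_src _ _]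
  exact Groth.L21.RR.hmap_zero _ _ _ _

variable (k : Type u) [Field k] (f : X ⟶ Spec (CommRingCat.of k)) [IsProper f]

include f in
theorem pz_good (hLa : PicF.IsInvertible La) {I : X.IdealSheafData} (hI : Good I) (N : ℕ)
    (hd : ∀ x : X, IsClosed ({x} : Set X) → x ∉ I.support →
      (N : ℕ∞) ≤ LocCoh.depth (X.presheaf.stalk x) (X.presheaf.stalk x))
    (q : ℕ) (hq : q + 1 ≤ N) : PZ La I q := fun a => by
  obtain ⟨L, s, hL, rfl⟩ := hI
  haveI : IsLocallyNoetherian X := LocallyOfFiniteType.isLocallyNoetherian f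
  obtain ⟨d, hd'⟩ := Groth.L18.OffAffine.exists_hmap_eq_zero_coh f hL s
    (Groth.L18.Ample.isCoh_of_isInvertible hLa) q (fun x hx hxs => by
      rw [Groth.L18.LefTwists.depth_stalk_invertible hLa x]
      exact le_trans (by exact_mod_cast hq) (hd x hx hxs)) q le_rfl a
  refine ⟨a + d, Nat.le_add_right a d, pow_le_pow' _ (Nat.le_add_right a d), fun x => ?_⟩
  obtain ⟨ea, hea⟩ := exists_idealMul_iso (PicF2.zeroScheme L s ^ a) hLa
  obtain ⟨eb, heb⟩ := exists_idealMul_iso (PicF2.zeroScheme L s ^ (a + d)) hLa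
  let l := lI La (pow_le_pow' (PicF2.zeroScheme L s) (Nat.le_add_right a d))
  have h := hd' (a + d) le_rfl (eb.hom ≫ l ≫ ea.inv) (by
    rw [← hea, Category.assoc, Category.assoc, Iso.inv_hom_id_assoc, lI_twi, heb]) (hmap eb.inv q x)
  rw [← hmap_comp, Iso.inv_hom_id_assoc, hmap_comp] at h
  have h2 := congrArg (hmap ea.hom q) h
  rw [← hmap_comp, Iso.inv_hom_id, hmap_id, map_zero] at h2
  exact h2

include f in
theorem pz_supI (hLa : PicF.IsInvertible La) [(tensorLeftF La).IsEquivalence] (N : ℕ)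
    (hd : ∀ x : X, IsClosed ({x} : Set X) →
      (N : ℕ∞) ≤ LocCoh.depth (X.presheaf.stalk x) (X.presheaf.stalk x)) :
    ∀ (r : ℕ) (D : Fin r → X.IdealSheafData), (∀ j, Good (D j)) → ∀ q : ℕ, q + r ≤ N → PZ La (supI r D) q
  | 0, D, _, q, _ => pz_zero q
  | r + 1, D, hD, q, hq => by
    haveI : IsLocallyNoetherian X := LocallyOfFiniteType.isLocallyNoetherian f
    haveI : CompactSpace X := QuasiCompact.compactSpace_of_compactSpace f
    haveI : IsNoetherian X := {}
    refine PZ.sup (pz_supI hLa N hd r _ (fun j => hD j.castSucc) q (by omega))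
      (pz_good k f hLa (hD _) N (fun x hx _ => hd x hx) q (by omega)) ?_
    rw [supI_mul]
    exact pz_supI hLa N hd r _ (fun j => (hD j.castSucc).mul (hD _)) (q + 1) (by omega)

end Groth.L13.LefInter
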