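import Groth.Agent.L18.LefTower
import Groth.Agent.L18.RegularPowMono
import Groth.Agent.L20.StrictSep
import Groth.Agent.L04.InjNoeth

/-!
# Sums and intersections of quasi-coherent ideals
-/

set_option autoImplicit false
set_option linter.style.haveILetI false
set_option backward.isDefEq.respectTransparency false
set_option backward.isDefEq.respectTransparency.types false
universe u

open CategoryTheory CategoryTheory.Limits AlgebraicGeometry TopologicalSpace Opposite

noncomputable section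

namespace Groth.L13.LefInter

open Groth.L22.Reg (sm sm_comp sm_map_sub sm_map_zero sm_zero)
open Groth.L20.SeeNormal (sI sI_eq)

variable {X : Scheme.{u}}

theorem sI_sup (I J : X.IdealSheafData) (x : X) : sI (I ⊔ J) x = sI I x ⊔ sI J x := by
  obtain ⟨V, hV, hxV, -⟩ := exists_isAffineOpen_mem_and_subset (x := x) (U := (⊤ : X.Opens)) trivial
  rw [sI_eq _ ⟨V, hV⟩ hxV, sI_eq _ ⟨V, hV⟩ hxV, sI_eq _ ⟨V, hV⟩ hxV, Scheme.IdealSheafData.ideal_sup,
    Pi.sup_apply, Ideal.map_sup]

theorem map_inf_of_isLocalization {A S : Type*} [CommRing A] [CommRing S] [Algebra A S] (M : Submonoid A)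
    [IsLocalization M S] (I J : Ideal A) :
    (I ⊓ J).map (algebraMap A S) = I.map (algebraMap A S) ⊓ J.map (algebraMap A S) := by
  refine le_antisymm (Ideal.map_inf_le _) fun z hz => ?_
  obtain ⟨⟨a, s⟩, ha⟩ := (IsLocalization.mem_map_algebraMap_iff M S).1 hz.1
  obtain ⟨⟨b, t⟩, hb⟩ := (IsLocalization.mem_map_algebraMap_iff M S).1 hz.2
  have h : algebraMap A S (t * a) = algebraMap A S (s * b) := by
    rw [map_mul, map_mul, ← ha, ← hb]; ring
  obtain ⟨c, hc⟩ := (IsLocalization.eq_iff_exists M S).1 h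
  refine (IsLocalization.mem_map_algebraMap_iff M S).2 ⟨⟨⟨c * (t * a), ?_⟩, c * (t * s)⟩, ?_⟩
  · exact ⟨I.mul_mem_left _ (I.mul_mem_left _ a.2), hc ▸ J.mul_mem_left _ (J.mul_mem_left _ b.2)⟩
  · simp only [Submonoid.coe_mul, map_mul, ← ha]
    ring

theorem sI_inf (I J : X.IdealSheafData) (x : X) : sI (I ⊓ J) x = sI I x ⊓ sI J x := by
  obtain ⟨V, hV, hxV, -⟩ := exists_isAffineOpen_mem_and_subset (x := x) (U := (⊤ : X.Opens)) trivial
  letI := X.presheaf.algebra_section_stalk ⟨x, hxV⟩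
  haveI := hV.isLocalization_stalk ⟨x, hxV⟩
  rw [sI_eq _ ⟨V, hV⟩ hxV, sI_eq _ ⟨V, hV⟩ hxV, sI_eq _ ⟨V, hV⟩ hxV, Scheme.IdealSheafData.ideal_inf,
    Pi.inf_apply]
  exact map_inf_of_isLocalization (hV.primeIdealOf ⟨x, hxV⟩).asIdeal.primeCompl (I.ideal ⟨V, hV⟩) (J.ideal ⟨V, hV⟩)

/-- The stalk of the module of an ideal, inside the local ring. -/
theorem exists_sm_idealModι_iff (I : X.IdealSheafData) (x : X) (r : X.presheaf.stalk x) :
    (∃ w, (show (Coh.structureModule X).presheaf.stalk x from sm x (ClSub.idealModι I) w) =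
      r • Groth.L21.RR.one X x) ↔ r ∈ sI I x := by
  obtain ⟨V, hV, hxV, -⟩ := exists_isAffineOpen_mem_and_subset (x := x) (U := (⊤ : X.Opens)) trivial
  constructor
  · rintro ⟨w, hw⟩
    obtain ⟨W, hxW, m, rfl⟩ := TopCat.Presheaf.exists_germ_eq (ClSub.idealMod I).presheaf w
    obtain ⟨W', hW', hxW', hle⟩ := exists_isAffineOpen_mem_and_subset (x := x) (U := W) hxW
    let m' : Γ(ClSub.idealMod I, W') := Groth.L18.Frame.rs (ClSub.idealMod I) hle m
    have hm' : (ClSub.idealMod I).presheaf.germ W' x hxW' m' = (ClSub.idealMod I).presheaf.germ W x hxW m :=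
      TopCat.Presheaf.germ_res_apply (ClSub.idealMod I).presheaf (homOfLE hle) x hxW' m
    have h1 := Groth.L18.RegularPowMono.stalk_idealModι_germ I hxW' m'
    rw [← hm'] at hw
    have h2 := hw.symm.trans h1
    rw [(Groth.L21.RR.bijective_smul_one x).1 h2, sI_eq I ⟨W', hW'⟩ hxW']
    refine Ideal.mem_map_of_mem _ ((Groth.L18.IdealModule.mem_ideal_iff I hW' _).2 ⟨m', rfl⟩)
  · intro hr
    rw [sI_eq I ⟨V, hV⟩ hxV, Ideal.map] at hr
    induction hr using Submodule.span_induction with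
    | mem r hr =>
      obtain ⟨a, ha, rfl⟩ := hr
      obtain ⟨m, hm⟩ := (Groth.L18.IdealModule.mem_ideal_iff I hV a).1 ha
      exact ⟨(ClSub.idealMod I).presheaf.germ V x hxV m,
        (Groth.L18.RegularPowMono.stalk_idealModι_germ I hxV m).trans (by rw [← hm])⟩
    | zero => exact ⟨0, (map_zero _).trans (zero_smul _ _).symm⟩
    | add a b _ _ ha hb =>
      obtain ⟨v, hv⟩ := ha
      obtain ⟨w, hw⟩ := hb
      exact ⟨v + w, (map_add _ v w).trans ((congrArg₂ (· + ·) hv hw).trans (add_smul _ _ _).symm)⟩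
    | smul c a _ ha =>
      obtain ⟨v, hv⟩ := ha
      exact ⟨c • v, (Groth.L18.LefTower.sm_smul _ c v).trans ((congrArg (c • ·) hv).trans (smul_smul c a _))⟩

theorem mem_sI_pow_iff (I : X.IdealSheafData) (n : ℕ) (x : X) (r : X.presheaf.stalk x) :
    r ∈ sI (I ^ n) x ↔ r ∈ sI I x ^ n := by
  rw [Groth.L20.Infinitesimal.sI_pow]

/-- Artin–Rees: high powers of two ideals meet inside a given power of the product. -/
theorem exists_pow_inf_pow_le [IsNoetherian X] (I J : X.IdealSheafData) (n : ℕ) :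
    ∃ d : ℕ, n ≤ d ∧ I ^ d ⊓ J ^ d ≤ (I * J) ^ n := by
  have haff : ∀ V : X.affineOpens, ∃ m, n ≤ m ∧
      (I.ideal V) ^ m ⊓ (J.ideal V) ^ n ≤ (I.ideal V * J.ideal V) ^ n := fun V => by
    haveI : IsNoetherianRing Γ(X, V.1) := IsLocallyNoetherian.component_noetherian V
    obtain ⟨m, -, hm⟩ := Groth.L04.exists_pow_inf_le_pow_mul (I.ideal V) ((J.ideal V) ^ n) n
    exact ⟨m + n, by omega, (inf_le_inf (Ideal.pow_le_pow_right (by omega)) le_rfl).trans
      (hm.trans (mul_pow _ _ n).ge)⟩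
  choose m hm using haff
  obtain ⟨t, ht⟩ := CompactSpace.elim_nhds_subcover
    (fun x : X => ((X.affineCover.f (X.affineCover.idx x)).opensRange : Set X))
    (fun x => (X.affineCover.f (X.affineCover.idx x)).opensRange.2.mem_nhds (X.affineCover.covers x))
  let V : t → X.affineOpens := fun x =>
    ⟨(X.affineCover.f (X.affineCover.idx x.1)).opensRange, isAffineOpen_opensRange _⟩
  refine ⟨n + Finset.univ.sup fun x => m (V x), by omega,
    Scheme.IdealSheafData.le_of_iSup_eq_top V ?_ fun x => ?_⟩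
  · refine eq_top_iff.2 fun y _ => ?_
    have hy : y ∈ (⊤ : Set X) := trivial
    rw [← ht] at hy
    simp only [Set.mem_iUnion] at hy
    obtain ⟨x, hx, hy⟩ := hy
    exact Opens.mem_iSup.2 ⟨⟨x, hx⟩, hy⟩
  · have hle : m (V x) ≤ Finset.univ.sup fun x => m (V x) :=
      Finset.le_sup (f := fun x => m (V x)) (Finset.mem_univ x)
    simp only [Scheme.IdealSheafData.ideal_inf, Scheme.IdealSheafData.ideal_pow,
      Scheme.IdealSheafData.ideal_mul, Pi.inf_apply, Pi.pow_apply, Pi.mul_apply]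
    exact (inf_le_inf (Ideal.pow_le_pow_right (by omega)) (Ideal.pow_le_pow_right (by omega))).trans (hm (V x)).2

theorem sup_pow_le (I J : X.IdealSheafData) (a : ℕ) : (I ⊔ J) ^ (a + a) ≤ I ^ a ⊔ J ^ a := by
  intro V
  simp only [Scheme.IdealSheafData.ideal_sup, Scheme.IdealSheafData.ideal_pow, Pi.sup_apply, Pi.pow_apply]
  exact Ideal.sup_pow_add_le_pow_sup_pow

theorem pow_sup_pow_le (I J : X.IdealSheafData) (a : ℕ) : I ^ a ⊔ J ^ a ≤ (I ⊔ J) ^ a := by
  intro V
  simp only [Scheme.IdealSheafData.ideal_sup, Scheme.IdealSheafData.ideal_pow, Pi.sup_apply, Pi.pow_apply]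
  exact sup_le (Ideal.pow_right_mono le_sup_left a) (Ideal.pow_right_mono le_sup_right a)

theorem mul_pow_le_inf (I J : X.IdealSheafData) (a : ℕ) : (I * J) ^ a ≤ I ^ a ⊓ J ^ a := by
  intro V
  simp only [Scheme.IdealSheafData.ideal_inf, Scheme.IdealSheafData.ideal_pow, Scheme.IdealSheafData.ideal_mul,
    Pi.inf_apply, Pi.pow_apply, Pi.mul_apply, mul_pow]
  exact Ideal.mul_le_inf

end Groth.L13.LefInter
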