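import Groth.Agent.L13.LefInter.Pro
import Groth.Agent.L13.AlgzSec.Setup
import Groth.Agent.L26.Elliptic.ZeroTensor

/-!
# The section of an ample inverse of an effective divisor
-/

set_option autoImplicit false
set_option linter.style.haveILetI false
set_option linter.unusedSectionVars false
set_option backward.isDefEq.respectTransparency false
set_option backward.isDefEq.respectTransparency.types false
universe u

open CategoryTheory CategoryTheory.Limits AlgebraicGeometry

noncomputable section

namespace Groth.L13.LefInter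

open Groth.L00.Tensor (tensorMap tensorUnitRight tensorLeftF)
open Groth.L22.Reg (sm sm_comp sm_id sm_zero sm_map_zero)
open Groth.L18.LefTower (sm_smul tensE tensE_natural)
open Groth.L20.SeeNormal (sI)
open Groth.L13.FEtLeff.LefSection (twi twp twi_twp)

variable {X : Scheme.{u}}

/-- A section killed by `L → L ⊗ O/D` has its zeros containing `D`. -/
theorem zeroScheme_le_of_twp {L : X.Modules} (hL : PicF.IsInvertible L) (D : X.IdealSheafData)
    (s : Coh.structureModule X ⟶ L) (hs : s ≫ twp L D = 0) : PicF2.zeroScheme L s ≤ D := by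
  refine fun U => Groth.L20.SeeNormal.ideal_le_of_sI_le U fun x _ => ?_
  obtain ⟨e, he, r, hr, hI⟩ := Groth.L13.AlgzSec.exists_sI_zeroScheme hL s x
  rw [hI, Ideal.span_singleton_le_iff_mem]
  let st := Groth.L00.Stk.F X x
  let e₀ : st.obj L := e
  let one : st.obj (Coh.structureModule X) := Groth.L21.RR.one X x
  let T := fun G : X.Modules => tensE x L e he G
  obtain ⟨u, hu⟩ := he.2 (sm x (tensorUnitRight L).hom (T _ one))
  obtain ⟨c, hc⟩ := (Groth.L21.RR.bijective_smul_one x).2
    ((T (Coh.structureModule X)).symm (sm x (tensorUnitRight L).inv e₀))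
  have hc' : sm x (tensorUnitRight L).inv e₀ = c • T _ one := by
    rw [← map_smul]
    exact ((congrArg (T _) hc).trans (LinearEquiv.apply_symm_apply _ _)).symm
  have hcu : c * u = 1 := by
    have h : sm x ((tensorUnitRight L).inv ≫ (tensorUnitRight L).hom) e₀ = e₀ := by rw [Iso.inv_hom_id, sm_id]
    rw [sm_comp, hc', sm_smul, show sm x (tensorUnitRight L).hom (T _ one) = u • e₀ from hu.symm, smul_smul] at h
    exact he.1 (h.trans (one_smul _ e₀).symm)
  have hq : sm x (twp L D) e₀ = c • T _ (sm x (ClSub.toSubscheme D) one) := by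
    show sm x ((tensorUnitRight L).inv ≫ tensorMap (𝟙 L) (ClSub.toSubscheme D)) e₀ = _
    rw [sm_comp, hc', sm_smul, tensE_natural x (𝟙 L) e he e he 1
      ((Groth.L22.Reg.sm_id x _).trans (one_smul _ _).symm) (ClSub.toSubscheme D) one, one_smul]
  have h0 : sm x (twp L D) (sm x s one) = 0 := by rw [← sm_comp, hs, sm_zero]
  rw [show sm x s one = r • e₀ from hr, sm_smul, hq, smul_smul] at h0
  have h1 : sm x (ClSub.toSubscheme D) ((r * c) • one) = 0 := by
    rw [sm_smul]
    exact (T _).map_eq_zero_iff.1 (((T _).map_smul _ _).trans h0)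
  obtain ⟨w, hw⟩ := Groth.L18.LefTower.exists_preimage_of_sm_eq_zero
    (S := ShortComplex.mk (ClSub.idealModι D) (ClSub.toSubscheme D) (kernel.condition _))
    (ShortComplex.exact_kernel _) x h1
  have hrc := (exists_sm_idealModι_iff D x (r * c)).1 ⟨w, hw⟩
  have : r = r * c * u := by rw [mul_assoc, hcu, mul_one]
  rw [this]
  exact Ideal.mul_mem_right _ _ hrc

/-- An effective divisor with an ample inverse is the zero scheme of a section of it. -/
theorem good_of_inverse {D : X.IdealSheafData} {L : X.Modules} (hL : ClSub.IsInverseOf L (ClSub.idealMod D))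
    (hamp : CohB1.IsAmple L) : Good D := by
  obtain ⟨e⟩ := hL
  refine ⟨L, e.inv ≫ twi L D, hamp, le_antisymm (zeroScheme_le_of_twp hamp.1 D _ ?_)
    (Groth.Agent.Elliptic.le_zeroScheme_of_factor hamp.1 _ D e.hom ?_)⟩
  · rw [Category.assoc, twi_twp, comp_zero]
  · rw [Iso.hom_inv_id_assoc]
    rfl

end Groth.L13.LefInter
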