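import Groth.Agent.L13.LefInter.Ideals
import Groth.Agent.L13.FEtLeff.LefSection
import Groth.Agent.L16.Rees.Consequences

/-!
# The Mayer-Vietoris step for inverse systems of twisted ideals
-/

set_option autoImplicit false
set_option linter.style.haveILetI false
set_option linter.unusedSectionVars false
set_option backward.isDefEq.respectTransparency false
set_option backward.isDefEq.respectTransparency.types false
universe u

open CategoryTheory CategoryTheory.Limits AlgebraicGeometry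

noncomputable section

namespace Groth.L13.LefInter

open Groth.L16.CohLinear (hmap hmap_comp delta exact_hmap_delta)
open Groth.L22.Reg (sm sm_comp sm_id sm_map_sub sm_map_add sm_map_neg sm_map_zero sm_zero sm_neg sm_ext)
open Groth.L20.SeeNormal (sI)
open Groth.L00.Tensor (tensorLeftF)
open Groth.L13.FEtLeff.LefSection (twi)

variable {X : Scheme.{u}}

/-- The inclusion of ideals. -/
def incl {K K' : X.IdealSheafData} (h : K ≤ K') : ClSub.idealMod K ⟶ ClSub.idealMod K' :=
  kernel.lift _ (ClSub.idealModι K) (by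
    rw [← Groth.L18.LefConnected.toSubscheme_quotMap h, ← Category.assoc,
      show ClSub.idealModι K ≫ ClSub.toSubscheme K = 0 from kernel.condition _, zero_comp])

theorem incl_ι {K K' : X.IdealSheafData} (h : K ≤ K') : incl h ≫ ClSub.idealModι K' = ClSub.idealModι K :=
  kernel.lift_ι _ _ _

instance mono_idealModι (K : X.IdealSheafData) : Mono (ClSub.idealModι K) :=
  inferInstanceAs (Mono (kernel.ι _))

/-- `0 → I ∩ J → I ⊕ J → I + J → 0`. -/
def mvSeq (I J : X.IdealSheafData) : ShortComplex X.Modules :=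
  ShortComplex.mk (biprod.lift (incl (inf_le_left : I ⊓ J ≤ I)) (incl (inf_le_right : I ⊓ J ≤ J)))
    (biprod.desc (incl (le_sup_left : I ≤ I ⊔ J)) (-incl (le_sup_right : J ≤ I ⊔ J))) (by
      rw [biprod.lift_desc, Preadditive.comp_neg, ← sub_eq_add_neg, sub_eq_zero, ← cancel_mono (ClSub.idealModι (I ⊔ J)),
        Category.assoc, Category.assoc, incl_ι, incl_ι, incl_ι, incl_ι])

theorem smι_incl {K K' : X.IdealSheafData} (h : K ≤ K') (x : X) (v : (Groth.L00.Stk.F X x).obj (ClSub.idealMod K)) :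
    sm x (ClSub.idealModι K') (sm x (incl h) v) = sm x (ClSub.idealModι K) v := by
  rw [← sm_comp, incl_ι]

theorem exists_coeff (K : X.IdealSheafData) (x : X) (v : (Groth.L00.Stk.F X x).obj (ClSub.idealMod K)) :
    ∃ r ∈ sI K x, (show (Coh.structureModule X).presheaf.stalk x from sm x (ClSub.idealModι K) v) =
      r • Groth.L21.RR.one X x := by
  obtain ⟨r, hr⟩ := (Groth.L21.RR.bijective_smul_one x).2
    (show (Coh.structureModule X).presheaf.stalk x from sm x (ClSub.idealModι K) v)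
  exact ⟨r, (exists_sm_idealModι_iff K x r).1 ⟨v, hr.symm⟩, hr.symm⟩

theorem sm_biprod {A B C : X.Modules} (f : A ⟶ C) (g : B ⟶ C) (x : X) (v : (Groth.L00.Stk.F X x).obj (A ⊞ B)) :
    sm x (biprod.desc f g) v = sm x f (sm x biprod.fst v) + sm x g (sm x biprod.snd v) := by
  rw [← sm_comp, ← sm_comp, ← Groth.L22.Reg.sm_add, biprod.desc_eq]

theorem shortExact_mvSeq (I J : X.IdealSheafData) : (mvSeq I J).ShortExact := by
  refine Groth.L00.KFlat.shortExact_of_stalks _ fun x => ?_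
  let O := Coh.structureModule X
  let one : (Groth.L00.Stk.F X x).obj O := Groth.L21.RR.one X x
  have hinj : ∀ K : X.IdealSheafData, Function.Injective (sm x (ClSub.idealModι K)) := fun K =>
    Groth.L18.LefTower.injective_sm _ x
  refine { exact := ?_, mono_f := ?_, epi_g := ?_ }
  · refine (ShortComplex.moduleCat_exact_iff _).2 fun v (hv : sm x (mvSeq I J).g v = 0) => ?_
    obtain ⟨a, haI, ha⟩ := exists_coeff I x (sm x biprod.fst v)
    obtain ⟨b, hbJ, hb⟩ := exists_coeff J x (sm x biprod.snd v)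
    have h := congrArg (sm x (ClSub.idealModι (I ⊔ J))) hv
    rw [sm_map_zero, show (mvSeq I J).g = biprod.desc (incl le_sup_left) (-incl le_sup_right) from rfl, sm_biprod,
      sm_neg, sm_map_add, sm_map_neg, smι_incl, smι_incl, add_neg_eq_zero] at h
    have hab : a = b := (Groth.L21.RR.bijective_smul_one x).1 (ha.symm.trans (h.trans hb))
    subst hab
    obtain ⟨w, hw⟩ := (exists_sm_idealModι_iff (I ⊓ J) x a).2 (by rw [sI_inf]; exact ⟨haI, hbJ⟩)
    refine ⟨w, sm_ext x ?_ ?_⟩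
    · show sm x biprod.fst (sm x (biprod.lift _ _) w) = _
      rw [← sm_comp, biprod.lift_fst]
      exact hinj I ((smι_incl _ x w).trans (hw.trans ha.symm))
    · show sm x biprod.snd (sm x (biprod.lift _ _) w) = _
      rw [← sm_comp, biprod.lift_snd]
      exact hinj J ((smι_incl _ x w).trans (hw.trans hb.symm))
  · refine (ModuleCat.mono_iff_injective _).2 fun v w h => ?_
    have h' : sm x biprod.fst (sm x (mvSeq I J).f v) = sm x biprod.fst (sm x (mvSeq I J).f w) :=
      congrArg (sm x biprod.fst) h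
    rw [← sm_comp, ← sm_comp, show (mvSeq I J).f ≫ biprod.fst = incl inf_le_left from biprod.lift_fst _ _] at h'
    refine hinj (I ⊓ J) ((smι_incl (inf_le_left : I ⊓ J ≤ I) x v).symm.trans ?_)
    exact (congrArg (sm x (ClSub.idealModι I)) h').trans (smι_incl (inf_le_left : I ⊓ J ≤ I) x w)
  · refine (ModuleCat.epi_iff_surjective _).2 fun z => ?_
    obtain ⟨c, hc, hz⟩ := exists_coeff (I ⊔ J) x z
    rw [sI_sup] at hc
    obtain ⟨a, ha, b, hb, rfl⟩ := Submodule.mem_sup.1 hc
    obtain ⟨p, hp⟩ := (exists_sm_idealModι_iff I x a).2 ha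
    obtain ⟨q, hq⟩ := (exists_sm_idealModι_iff J x b).2 hb
    refine ⟨sm x biprod.inl p - sm x biprod.inr q, hinj (I ⊔ J) ?_⟩
    show sm x _ (sm x (biprod.desc (incl le_sup_left) (-incl le_sup_right)) _) = _
    rw [sm_map_sub, ← sm_comp, ← sm_comp, biprod.inl_desc, biprod.inr_desc, sm_neg, sub_neg_eq_add, sm_map_add,
      smι_incl, smι_incl]
    exact (congrArg₂ (· + ·) hp hq).trans ((add_smul a b _).symm.trans hz.symm)

section Twist

variable (La : X.Modules)

/-- `La ⊗ K`. -/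
abbrev TI (K : X.IdealSheafData) : X.Modules := (tensorLeftF La).obj (ClSub.idealMod K)

/-- `La ⊗ K → La ⊗ K'`. -/
abbrev lI {K K' : X.IdealSheafData} (h : K ≤ K') : TI La K ⟶ TI La K' := (tensorLeftF La).map (incl h)

theorem lI_twi {K K' : X.IdealSheafData} (h : K ≤ K') : lI La h ≫ twi La K' = twi La K := by
  show (tensorLeftF La).map (incl h) ≫ (tensorLeftF La).map (ClSub.idealModι K') ≫ _ = _
  rw [← Category.assoc, ← Functor.map_comp, incl_ι]
  rfl

/-- The map `H^q(K La) → H^q(K' La)` is zero. -/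
def Kill (K K' : X.IdealSheafData) (q : ℕ) : Prop :=
  ∃ h : K ≤ K', ∀ x, hmap (lI La h) q x = 0

variable {La}

theorem Kill.mono {K K₁ K₁' K' : X.IdealSheafData} {q : ℕ} (hk : Kill La K₁ K₁' q) (h : K ≤ K₁) (h' : K₁' ≤ K') :
    Kill La K K' q := by
  obtain ⟨h1, h2⟩ := hk
  refine ⟨h.trans (h1.trans h'), fun x => ?_⟩
  have : lI La (h.trans (h1.trans h')) = lI La h ≫ lI La h1 ≫ lI La h' := by
    simp only [← Functor.map_comp]
    refine congrArg (tensorLeftF La).map ?_
    rw [← cancel_mono (ClSub.idealModι K'), Category.assoc, Category.assoc, incl_ι, incl_ι, incl_ι, incl_ι]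
  rw [this, hmap_comp, hmap_comp, h2, map_zero]

theorem Kill.mv [(tensorLeftF La).IsEquivalence] {I₀ I₁ I₂ J₀ J₁ J₂ : X.IdealSheafData} {q : ℕ}
    (hI : Kill La I₁ I₂ q) (hJ : Kill La J₁ J₂ q) (hI₀ : I₀ ≤ I₁) (hJ₀ : J₀ ≤ J₁)
    (hK : Kill La (I₀ ⊓ J₀) (I₁ ⊓ J₁) (q + 1)) : Kill La (I₀ ⊔ J₀) (I₂ ⊔ J₂) q := by
  obtain ⟨hI, hI'⟩ := hI
  obtain ⟨hJ, hJ'⟩ := hJ
  obtain ⟨hK, hK'⟩ := hK
  have h₀₁ : I₀ ⊔ J₀ ≤ I₁ ⊔ J₁ := sup_le_sup hI₀ hJ₀
  have h₁₂ : I₁ ⊔ J₁ ≤ I₂ ⊔ J₂ := sup_le_sup hI hJ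
  refine ⟨h₀₁.trans h₁₂, fun x => ?_⟩
  haveI : PreservesFiniteLimits (tensorLeftF La) := inferInstance
  haveI : PreservesFiniteColimits (tensorLeftF La) := inferInstance
  have hS₀ := (shortExact_mvSeq I₀ J₀).map_of_exact (tensorLeftF La)
  have hS₁ := (shortExact_mvSeq I₁ J₁).map_of_exact (tensorLeftF La)
  let φ : mvSeq I₀ J₀ ⟶ mvSeq I₁ J₁ :=
    { τ₁ := incl hK
      τ₂ := biprod.map (incl hI₀) (incl hJ₀)
      τ₃ := incl h₀₁
      comm₁₂ := by
        refine biprod.hom_ext _ _ ?_ ?_ <;>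
          simp only [mvSeq, Category.assoc, biprod.map_fst, biprod.map_snd, biprod.lift_fst, biprod.lift_snd,
            biprod.lift_fst_assoc, biprod.lift_snd_assoc] <;>
          rw [← cancel_mono (ClSub.idealModι _), Category.assoc, Category.assoc, incl_ι, incl_ι, incl_ι, incl_ι]
      comm₂₃ := by
        refine biprod.hom_ext' _ _ ?_ ?_ <;>
          simp only [mvSeq, biprod.inl_map_assoc, biprod.inr_map_assoc, biprod.inl_desc, biprod.inr_desc,
            biprod.inl_desc_assoc, biprod.inr_desc_assoc, Preadditive.neg_comp, Preadditive.comp_neg] <;>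
          rw [← cancel_mono (ClSub.idealModι _)] <;>
          simp only [Category.assoc, Preadditive.neg_comp, incl_ι] }
  let g₀₁ := lI La h₀₁
  have hδ : delta hS₁ q (hmap g₀₁ q x) = 0 := by
    exact (Groth.L16.Rees.delta_naturality hS₀ hS₁ ((tensorLeftF La).mapShortComplex.map φ) x).trans (hK' _)
  obtain ⟨y, hy⟩ := (exact_hmap_delta hS₁ q _).1 hδ
  have hsplit : ((mvSeq I₁ J₁).map (tensorLeftF La)).g ≫ lI La h₁₂ =
      (tensorLeftF La).map (biprod.fst : ClSub.idealMod I₁ ⊞ ClSub.idealMod J₁ ⟶ _) ≫ lI La hI ≫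
          lI La (le_sup_left : I₂ ≤ I₂ ⊔ J₂) +
        (tensorLeftF La).map (biprod.snd : ClSub.idealMod I₁ ⊞ ClSub.idealMod J₁ ⟶ _) ≫ lI La hJ ≫
          (-lI La (le_sup_right : J₂ ≤ I₂ ⊔ J₂)) := by
    simp only [ShortComplex.map_g, ← Functor.map_comp, ← Functor.map_neg, ← Functor.map_add]
    refine congrArg (tensorLeftF La).map (biprod.hom_ext' _ _ ?_ ?_) <;>
      simp [mvSeq, ← cancel_mono (ClSub.idealModι _), incl_ι, Preadditive.neg_comp]
  have hg : lI La (h₀₁.trans h₁₂) = g₀₁ ≫ lI La h₁₂ := by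
    simp only [g₀₁, ← Functor.map_comp]
    refine congrArg (tensorLeftF La).map ?_
    rw [← cancel_mono (ClSub.idealModι (I₂ ⊔ J₂)), Category.assoc, incl_ι, incl_ι, incl_ι]
  rw [hg, hmap_comp, ← hy]
  refine (hmap_comp ((mvSeq I₁ J₁).map (tensorLeftF La)).g (lI La h₁₂) q y).symm.trans ?_
  rw [hsplit, Groth.L21.RR.hmap_add, hmap_comp, hmap_comp, hmap_comp, hmap_comp,
    hI', hJ', map_zero, map_zero, add_zero]

end Twist

end Groth.L13.LefInter
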