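import Groth.Agent.L18.LefExtend
import Groth.Agent.L14.FiltS2.Generic
import Groth.Agent.L05.PtSeq.Sections
import Groth.Agent.L13.AlgzSec.Setup

/-!
# The comparison of homomorphisms on a punctured neighbourhood
-/

set_option autoImplicit false
set_option linter.style.haveILetI false
set_option linter.unusedSectionVars false
set_option backward.isDefEq.respectTransparency false
set_option backward.isDefEq.respectTransparency.types false
universe u

open CategoryTheory CategoryTheory.Limits AlgebraicGeometry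

noncomputable section

namespace Groth.L13.LefInter.Punct

open Groth.L18.LefConnected (unitToPush_comp toSubscheme_quotMap)
open Groth.L20.SeeNormal (sI)

variable {X : Scheme.{u}}

/-- The traces of the thickenings on an open outside which their functions extend. -/
theorem exists_omega (𝓙 : X.IdealSheafData) {W : Scheme.{u}} (j : W ⟶ X) [IsOpenImmersion j] (n : ℕ)
    [IsIso (ClSub.unitToPush (pullback.snd j (𝓙 ^ (n + 1)).subschemeι))] :
    ∃ ω : ClSub.quotMod (𝓙 ^ (n + 1)) ≅
        (Scheme.Modules.pushforward j).obj (ClSub.quotMod ((𝓙.comap j) ^ (n + 1))),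
      ClSub.toSubscheme (𝓙 ^ (n + 1)) ≫ ω.hom =
        ClSub.unitToPush j ≫ (Scheme.Modules.pushforward j).map (ClSub.toSubscheme ((𝓙.comap j) ^ (n + 1))) := by
  let i := (𝓙 ^ (n + 1)).subschemeι
  let i' := ((𝓙.comap j) ^ (n + 1)).subschemeι
  let v := pullback.snd j i
  let l := pullback.fst j i
  have sq : IsPullback l v j i := IsPullback.of_hasPullback j i
  haveI : IsClosedImmersion l := inferInstanceAs (IsClosedImmersion (pullback.fst j i))
  have hk : l.ker = i'.ker := by
    show l.ker = (((𝓙.comap j) ^ (n + 1)).subschemeι).ker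
    rw [Scheme.IdealSheafData.ker_subschemeι, ← Groth.L17.Thick.comap_pow,
      Scheme.IdealSheafData.ker_fst_of_isClosedImmersion,
      Scheme.IdealSheafData.ker_subschemeι]
  haveI := IsClosedImmersion.isIso_lift _ _ hk
  let e := asIso (IsClosedImmersion.lift l i' hk.le)
  have he : e.hom ≫ l = i' := IsClosedImmersion.lift_fac _ _ _
  have he' : e.inv ≫ i' ≫ j = v ≫ i := by rw [← he, Category.assoc, Iso.inv_hom_id_assoc]; exact sq.w
  haveI := Groth.L18.LefExtend.isIso_unitToPush e.inv
  let α : ClSub.quotMod (𝓙 ^ (n + 1)) ≅ (Scheme.Modules.pushforward (v ≫ i)).obj (Coh.structureModule _) :=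
    (Scheme.Modules.pushforward i).mapIso (asIso (ClSub.unitToPush v)) ≪≫
      (Scheme.Modules.pushforwardComp v i).app _ ≪≫ (Scheme.Modules.pushforwardCongr rfl).app _
  let γ : (Scheme.Modules.pushforward j).obj (ClSub.quotMod ((𝓙.comap j) ^ (n + 1))) ≅
      (Scheme.Modules.pushforward (i' ≫ j)).obj (Coh.structureModule _) :=
    (Scheme.Modules.pushforwardComp i' j).app _ ≪≫ (Scheme.Modules.pushforwardCongr rfl).app _
  let δ : (Scheme.Modules.pushforward (i' ≫ j)).obj (Coh.structureModule _) ≅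
      (Scheme.Modules.pushforward (v ≫ i)).obj (Coh.structureModule _) :=
    (Scheme.Modules.pushforward (i' ≫ j)).mapIso (asIso (ClSub.unitToPush e.inv)) ≪≫
      (Scheme.Modules.pushforwardComp e.inv (i' ≫ j)).app _ ≪≫ (Scheme.Modules.pushforwardCongr he').app _
  refine ⟨α ≪≫ δ.symm ≪≫ γ.symm, ?_⟩
  have h1 : ClSub.toSubscheme (𝓙 ^ (n + 1)) ≫ α.hom = ClSub.unitToPush (v ≫ i) :=
    unitToPush_comp v i (v ≫ i) rfl
  have h2 : (ClSub.unitToPush j ≫
      (Scheme.Modules.pushforward j).map (ClSub.toSubscheme ((𝓙.comap j) ^ (n + 1)))) ≫ γ.hom =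
      ClSub.unitToPush (i' ≫ j) :=
    (Category.assoc _ _ _).trans (unitToPush_comp i' j (i' ≫ j) rfl)
  have h3 : ClSub.unitToPush (i' ≫ j) ≫ δ.hom = ClSub.unitToPush (v ≫ i) :=
    unitToPush_comp e.inv (i' ≫ j) (v ≫ i) he'.symm
  simp only [Iso.trans_hom, Iso.symm_hom]
  rw [← Category.assoc, h1, ← h3, Category.assoc, Iso.hom_inv_id_assoc, ← h2, Category.assoc, Iso.hom_inv_id,
    Category.comp_id]

/-- Homomorphisms on an open are those out of an extension, when functions and their reductions extend. -/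
theorem homToFormalBijective_restrict (𝓙 : X.IdealSheafData) {W : Scheme.{u}} (j : W ⟶ X) [IsOpenImmersion j]
    [IsIso (ClSub.unitToPush j)]
    (hn : ∀ n : ℕ, IsIso (ClSub.unitToPush (pullback.snd j (𝓙 ^ (n + 1)).subschemeι)))
    {G : X.Modules} (h : Lef.HomToFormalBijective 𝓙 G) :
    Lef.HomToFormalBijective (𝓙.comap j) (G.restrict j) := by
  choose ω hω using fun n => @exists_omega X 𝓙 W j _ n (hn n)
  let adj := Scheme.Modules.restrictAdjunction j
  let P := Scheme.Modules.pushforward j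
  let u := ClSub.unitToPush j
  let t' := fun n => ClSub.toSubscheme ((𝓙.comap j) ^ (n + 1))
  have hq : ∀ n, (ω (n + 1)).hom ≫ P.map (Lef.quotMap (Lef.pow_succ_le (𝓙.comap j) n)) =
      Lef.quotMap (Lef.pow_succ_le 𝓙 n) ≫ (ω n).hom := fun n => by
    haveI := Groth.L18.AffineCrit.epi_toSubscheme (𝓙 ^ (n + 1 + 1))
    rw [← cancel_epi (ClSub.toSubscheme (𝓙 ^ (n + 1 + 1))), ← Category.assoc, hω, Category.assoc, ← Functor.map_comp,
      toSubscheme_quotMap, ← Category.assoc, toSubscheme_quotMap, hω]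
  have hnat : ∀ {M N : W.Modules} (f : G.restrict j ⟶ M) (g : M ⟶ N),
      adj.homEquiv _ _ (f ≫ g) = adj.homEquiv _ _ f ≫ P.map g := fun f g => adj.homEquiv_naturality_right f g
  refine ⟨fun φ ψ hφψ => ?_, fun y hy => ?_⟩
  · refine (adj.homEquiv _ _).injective ?_
    rw [← cancel_mono (inv u)]
    refine h.1 _ _ fun n => ?_
    simp only [← cancel_mono (ω n).hom, Category.assoc, hω]
    simp only [u, IsIso.inv_hom_id_assoc]
    erw [← hnat, ← hnat]
    exact congrArg _ (hφψ n)
  · let Y : ∀ n, G ⟶ ClSub.quotMod (𝓙 ^ (n + 1)) := fun n => adj.homEquiv _ _ (y n) ≫ (ω n).inv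
    obtain ⟨Φ, hΦ⟩ := h.2 Y fun n => by
      rw [← cancel_mono (ω n).hom, Category.assoc, ← hq, Category.assoc, Iso.inv_hom_id_assoc, ← hnat, hy n,
        Category.assoc, Iso.inv_hom_id, Category.comp_id]
    refine ⟨(adj.homEquiv _ _).symm (Φ ≫ u), fun n => (adj.homEquiv _ _).injective ?_⟩
    rw [hnat, Equiv.apply_symm_apply, Category.assoc, ← hω, ← Category.assoc, hΦ, Category.assoc, Iso.inv_hom_id,
      Category.comp_id]

/-- The unit of an open immersion outside whose image the local rings have depth at least two. -/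
theorem isIso_unit_of_depth [IsLocallyNoetherian X] {W : Scheme.{u}} (j : W ⟶ X) [IsOpenImmersion j]
    (h : ∀ x : X, x ∉ Set.range j → (2 : ℕ∞) ≤ LocCoh.depth (X.presheaf.stalk x) (X.presheaf.stalk x)) :
    IsIso (ClSub.unitToPush j) := by
  haveI := Groth.L18.LefExtend.isIso_unitToPush j.isoOpensRange.hom
  haveI := Groth.L18.LefExtend.isIso_unitToPush_of_bijective j.opensRange
    (Groth.L07.RefExtend.supportedOn_structureModule fun x hx => h x hx)
  rw [← unitToPush_comp j.isoOpensRange.hom j.opensRange.ι j j.isoOpensRange_hom_ι.symm]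
  infer_instance

/-- The depth of a thickening of a hypersurface at a point. -/
theorem two_le_depth_pow [IsLocallyNoetherian X] [IsIntegral X] {J : X.IdealSheafData} (n : ℕ)
    (z : (J ^ (n + 1)).subscheme) {r : X.presheaf.stalk ((J ^ (n + 1)).subschemeι z)}
    (hr : sI J ((J ^ (n + 1)).subschemeι z) = Ideal.span {r}) (hr0 : r ≠ 0)
    (h3 : (3 : ℕ∞) ≤ LocCoh.depth (X.presheaf.stalk ((J ^ (n + 1)).subschemeι z))
      (X.presheaf.stalk ((J ^ (n + 1)).subschemeι z))) :
    (2 : ℕ∞) ≤ LocCoh.depth ((J ^ (n + 1)).subscheme.presheaf.stalk z)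
      ((J ^ (n + 1)).subscheme.presheaf.stalk z) := by
  have hs : Groth.L05.PtSeq.stI (J ^ (n + 1)) ((J ^ (n + 1)).subschemeι z) = Ideal.span {r ^ (n + 1)} := by
    rw [Groth.L05.PtSeq.stI_eq_sI, Groth.L20.Infinitesimal.sI_pow, hr, Ideal.span_singleton_pow]
  let e := (Ideal.quotEquivOfEq hs.symm).trans (Groth.L05.PtSeq.stalkQuotEquiv (J ^ (n + 1)) z)
  haveI := e.symm.isLocalRing
  rw [Groth.L06.FlatFibre.depth_eq_of_ringEquiv e]
  have hmem : r ^ (n + 1) ∈ IsLocalRing.maximalIdeal (X.presheaf.stalk ((J ^ (n + 1)).subschemeι z)) := by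
    rw [IsLocalRing.mem_maximalIdeal]
    intro hu
    have : Ideal.span {r ^ (n + 1)} = ⊤ := Ideal.span_singleton_eq_top.2 hu
    exact not_subsingleton (X.presheaf.stalk ((J ^ (n + 1)).subschemeι z) ⧸ Ideal.span {r ^ (n + 1)})
      (Ideal.Quotient.subsingleton_iff.2 this)
  have h := Groth.L14.FiltS2.depth_quotient_add_one _ (r ^ (n + 1)) hmem
    (fun a b hab => mul_left_cancel₀ (pow_ne_zero _ hr0) hab)
  rw [← h] at h3
  generalize LocCoh.depth (_ ⧸ Ideal.span {r ^ (n + 1)}) (_ ⧸ Ideal.span {r ^ (n + 1)}) = D at h3 ⊢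
  cases D with
  | top => exact le_top
  | coe D => exact_mod_cast (show 2 ≤ D by have : 3 ≤ D + 1 := by exact_mod_cast h3
                                           omega)

/-- The same, from the reduced level. -/
theorem three_le_depth [IsLocallyNoetherian X] [IsIntegral X] {J : X.IdealSheafData} (w : J.subscheme)
    {r : X.presheaf.stalk (J.subschemeι w)} (hr : sI J (J.subschemeι w) = Ideal.span {r}) (hr0 : r ≠ 0)
    (h2 : (2 : ℕ∞) ≤ LocCoh.depth (J.subscheme.presheaf.stalk w) (J.subscheme.presheaf.stalk w)) :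
    (3 : ℕ∞) ≤ LocCoh.depth (X.presheaf.stalk (J.subschemeι w)) (X.presheaf.stalk (J.subschemeι w)) := by
  have hs : Groth.L05.PtSeq.stI J (J.subschemeι w) = Ideal.span {r} := by rw [Groth.L05.PtSeq.stI_eq_sI, hr]
  let e := (Ideal.quotEquivOfEq hs.symm).trans (Groth.L05.PtSeq.stalkQuotEquiv J w)
  haveI := e.symm.isLocalRing
  have hmem : r ∈ IsLocalRing.maximalIdeal (X.presheaf.stalk (J.subschemeι w)) := by
    rw [IsLocalRing.mem_maximalIdeal]
    intro hu
    exact not_subsingleton (X.presheaf.stalk (J.subschemeι w) ⧸ Ideal.span {r})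
      (Ideal.Quotient.subsingleton_iff.2 (Ideal.span_singleton_eq_top.2 hu))
  rw [Groth.L06.FlatFibre.depth_eq_of_ringEquiv e] at h2
  rw [← Groth.L14.FiltS2.depth_quotient_add_one _ r hmem (fun a b hab => mul_left_cancel₀ hr0 hab)]
  exact le_trans (by norm_num) (add_le_add_left h2 1)

end Groth.L13.LefInter.Punct
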